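import Mathlib
import Cfsg.Prelude

/-! S3153 farm (architect helper18), leaf L1: the image in `X` of a Sylow 2-subgroup of a subgroup `N`
is a 2-subgroup of `N` which is maximal among the 2-subgroups of `N`. -/

set_option autoImplicit false

namespace Cfsg.Agent.Lib.Helper18.SS53

theorem sylow_max {X : Type*} [Group X] [Finite X] (N : Subgroup X) (S : Sylow 2 ↥N) :
    IsPGroup 2 ↥((S : Subgroup ↥N).map N.subtype) ∧ (S : Subgroup ↥N).map N.subtype ≤ N ∧
      ∀ Q : Subgroup X, IsPGroup 2 ↥Q → Q ≤ N → (S : Subgroup ↥N).map N.subtype ≤ Q →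
        Q = (S : Subgroup ↥N).map N.subtype := by
  refine ⟨S.isPGroup'.map N.subtype, Subgroup.map_subtype_le _, ?_⟩
  intro Q hQ hQN hSQ
  have h1 : IsPGroup 2 ↥(Q.subgroupOf N) := hQ.comap_subtype
  have h2 : (S : Subgroup ↥N) ≤ Q.subgroupOf N := by
    intro s hs
    rw [Subgroup.mem_subgroupOf]
    exact hSQ (Subgroup.mem_map_of_mem _ hs)
  have h3 : Q.subgroupOf N = (S : Subgroup ↥N) := S.is_maximal' h1 h2
  rw [← h3, Subgroup.map_subgroupOf_eq_of_le hQN]

end Cfsg.Agent.Lib.Helper18.SS53
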