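import Mathlib
import Cfsg.Prelude
import Cfsg.Agent.Lib.Helper9.Layer
import Cfsg.Agent.Lib.Helper9.PComp2

/-! S3153 farm (architect helper18), leaf L11 (second half of the row). `P` quasisimple containing an involution `a`,
`[P, O(X)] = 1`, `L` a 2-component of `X` containing `P`. Then `L` is quasisimple.
(By `Cfsg.Agent.Lib.Helper9.pcomp_qs_iff` and `map_pPrimeCore_subnormal` it is enough that `L` centralises `O(X) ⊓ L`.
`C := L ⊓ centralizer (O(X) ⊓ L)` is normal in `L`, hence subnormal in `X`, and contains `P`.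
By `Cfsg.Agent.Lib.Helper9.pcomp_subnormal_image`, `C = L` (done) or the image of `C` in `X / O(X)` is central in the image
of `L`; then the image of `P` is abelian, so `P = [P, P] ≤ O(X)` has odd order
(`Cfsg.Agent.Lib.Helper1.pPrimeCore_coprime`), but `a ∈ P`.) -/

set_option autoImplicit false

namespace Cfsg.Agent.Lib.Helper18.SS53

open scoped commutatorElement in
theorem pcomp_qs {X : Type*} [Group X] [Finite X] (P : Subgroup X)
    (hq : Cfsg.IsQuasisimple ↥P) (a : X) (haP : a ∈ P) (ha : orderOf a = 2)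
    (hPD : ⁅P, Cfsg.oddCore X⁆ = ⊥) (L : Subgroup X) (hL : Cfsg.IsPComponent 2 L) (hPL : P ≤ L) :
    Cfsg.IsQuasisimple ↥L := by
  haveI : Fact (Nat.Prime 2) := ⟨Nat.prime_two⟩
  have hOn : (Cfsg.pPrimeCore 2 X).Normal := Cfsg.Agent.Lib.Helper1.pPrimeCore_normal 2
  rw [Cfsg.Agent.Lib.Helper9.pcomp_qs_iff hL, Cfsg.Agent.Lib.Helper9.map_pPrimeCore_subnormal hL.1]
  set O := Cfsg.pPrimeCore 2 X with hO
  -- the subgroup C
  set C : Subgroup X := L ⊓ Subgroup.centralizer ((O ⊓ L : Subgroup X) : Set X) with hC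
  have hCL : C ≤ L := inf_le_left
  have hCn : (C.subgroupOf L).Normal := by
    refine ⟨fun x hx l => ?_⟩
    rw [Subgroup.mem_subgroupOf] at hx ⊢
    refine ⟨?_, ?_⟩
    · exact L.mul_mem (L.mul_mem l.2 hx.1) (L.inv_mem l.2)
    · have hx2 : (x : X) ∈ Subgroup.centralizer ((O ⊓ L : Subgroup X) : Set X) := hx.2
      show ((l * x * l⁻¹ : ↥L) : X) ∈ Subgroup.centralizer ((O ⊓ L : Subgroup X) : Set X)
      rw [Subgroup.mem_centralizer_iff] at hx2 ⊢
      intro y hy
      -- y ∈ O ⊓ L; l⁻¹ y l ∈ O ⊓ L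
      have hy' : (l : X)⁻¹ * y * (l : X) ∈ ((O ⊓ L : Subgroup X) : Set X) := by
        refine ⟨?_, ?_⟩
        · have := hOn.conj_mem y hy.1 (l : X)⁻¹
          simpa using this
        · exact L.mul_mem (L.mul_mem (L.inv_mem l.2) hy.2) l.2
      have h1 := hx2 _ hy'
      -- (l⁻¹ y l) x = x (l⁻¹ y l)
      show y * ((l : X) * (x : X) * (l : X)⁻¹) = ((l : X) * (x : X) * (l : X)⁻¹) * y
      have e1 : y * ((l : X) * (x : X) * (l : X)⁻¹) = (l : X) * (((l : X)⁻¹ * y * (l : X)) * (x : X)) * (l : X)⁻¹ := by group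
      have e2 : ((l : X) * (x : X) * (l : X)⁻¹) * y = (l : X) * ((x : X) * ((l : X)⁻¹ * y * (l : X))) * (l : X)⁻¹ := by group
      rw [e1, e2, h1]
  have hCsub : C.IsSubnormal := Subgroup.IsSubnormal.step C L hCL hL.1 hCn
  have hPC : P ≤ C := by
    refine le_inf hPL ?_
    have h1 : P ≤ Subgroup.centralizer (O : Set X) :=
      Subgroup.commutator_eq_bot_iff_le_centralizer.mp hPD
    exact h1.trans (Subgroup.centralizer_le (by exact_mod_cast (inf_le_left : O ⊓ L ≤ O)))
  rcases Cfsg.Agent.Lib.Helper9.pcomp_subnormal_image hL hCsub hCL with h | h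
  · -- C = L
    rw [Subgroup.commutator_eq_bot_iff_le_centralizer]
    have : L ≤ C := le_of_eq h.symm
    exact this.trans inf_le_right
  · exfalso
    -- the image of P is abelian
    have hcomm : ∀ x ∈ P, ∀ y ∈ P, ⁅x, y⁆ ∈ O := by
      intro x hx y hy
      have hxC : (QuotientGroup.mk' O) x ∈ C.map (QuotientGroup.mk' O) := Subgroup.mem_map_of_mem _ (hPC hx)
      have hyL : (QuotientGroup.mk' O) y ∈ L.map (QuotientGroup.mk' O) := Subgroup.mem_map_of_mem _ (hPL hy)
      have hxL : (QuotientGroup.mk' O) x ∈ L.map (QuotientGroup.mk' O) := Subgroup.mem_map_of_mem _ (hPL hx)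
      have hxc := h (x := ⟨_, hxL⟩) (Subgroup.mem_subgroupOf.mpr hxC)
      have h2 := (Subgroup.mem_center_iff.mp hxc) ⟨_, hyL⟩
      have h3 : (QuotientGroup.mk' O) y * (QuotientGroup.mk' O) x = (QuotientGroup.mk' O) x * (QuotientGroup.mk' O) y :=
        congrArg Subtype.val h2
      have h4 : (QuotientGroup.mk' O) ⁅x, y⁆ = 1 := by
        rw [commutatorElement_def, map_mul, map_mul, map_mul, map_inv, map_inv, ← h3]
        group
      exact (QuotientGroup.eq_one_iff _).mp h4
    have hPP : ⁅P, P⁆ ≤ O := by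
      rw [Subgroup.commutator_le]
      intro x hx y hy
      exact hcomm x hx y hy
    have hperf : ⁅P, P⁆ = P := Subgroup.isPerfect_iff.mp hq.1
    have hPO : P ≤ O := hperf ▸ hPP
    have haO : a ∈ O := hPO haP
    have hcop : (Nat.card O).Coprime 2 := Cfsg.Agent.Lib.Helper1.pPrimeCore_coprime 2
    have hdvd : orderOf (⟨a, haO⟩ : O) ∣ Nat.card O := orderOf_dvd_natCard _
    have hord : orderOf (⟨a, haO⟩ : O) = 2 := by
      rw [← ha]
      exact (Subgroup.orderOf_mk a haO)
    rw [hord] at hdvd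
    have := Nat.Coprime.eq_one_of_dvd hcop.symm hdvd
    omega

end Cfsg.Agent.Lib.Helper18.SS53
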