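import Mathlib
import Cfsg.Prelude

/-! S3153 farm (architect helper18), leaf L2: if `T` is a maximal 2-subgroup of `N`, and `g` normalises `T`,
`g ∉ T`, `g ^ 2 ∈ T`, then `g ∉ N` (else `T ⊔ zpowers g` is a larger 2-subgroup of `N`;
`IsPGroup.to_sup_of_normal_right'` may help). -/

set_option autoImplicit false

namespace Cfsg.Agent.Lib.Helper18.SS53

theorem not_mem_of_normalizes {X : Type*} [Group X] [Finite X] (N T : Subgroup X) (hT2 : IsPGroup 2 ↥T)
    (hTN : T ≤ N) (hmax : ∀ Q : Subgroup X, IsPGroup 2 ↥Q → Q ≤ N → T ≤ Q → Q = T)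
    (g : X) (hgN : ∀ s ∈ T, g * s * g⁻¹ ∈ T) (hgS : g ∉ T) (hg2 : g ^ 2 ∈ T) : g ∉ N := by
  intro hgNN
  -- g normalises T
  have hnorm : g ∈ Subgroup.normalizer (T : Set X) := by
    rw [Subgroup.mem_normalizer_iff]
    intro h
    refine ⟨fun hh => hgN h hh, fun hh => ?_⟩
    -- conjugation by g is an injective self-map of the finite set T, hence onto
    let φ : T → T := fun s => ⟨g * s.1 * g⁻¹, hgN s.1 s.2⟩
    have hinj : Function.Injective φ := by
      intro a b hab
      have h1 : g * a.1 * g⁻¹ = g * b.1 * g⁻¹ := congrArg Subtype.val hab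
      have h2 : a.1 = b.1 := by
        have := mul_right_cancel h1
        exact mul_left_cancel this
      exact Subtype.ext h2
    have hsurj : Function.Surjective φ := Finite.injective_iff_surjective.mp hinj
    obtain ⟨s, hs⟩ := hsurj ⟨g * h * g⁻¹, hh⟩
    have h1 : g * s.1 * g⁻¹ = g * h * g⁻¹ := congrArg Subtype.val hs
    have h2 : s.1 = h := by
      have := mul_right_cancel h1
      exact mul_left_cancel this
    rw [← h2]
    exact s.2
  -- zpowers g is a 2-group
  have hz2 : IsPGroup 2 ↥(Subgroup.zpowers g) := by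
    obtain ⟨k, hk⟩ := hT2 ⟨g ^ 2, hg2⟩
    have hk' : (g ^ 2) ^ (2 ^ k) = 1 := by
      have := congrArg Subtype.val hk
      simpa using this
    have hgk : g ^ (2 ^ (k + 1)) = 1 := by
      rw [pow_succ', pow_mul]
      exact hk'
    have hord : orderOf g ∣ 2 ^ (k + 1) := orderOf_dvd_of_pow_eq_one hgk
    obtain ⟨j, _, hj⟩ := (Nat.dvd_prime_pow Nat.prime_two).mp hord
    have hcard : Nat.card ↥(Subgroup.zpowers g) = 2 ^ j := by
      rw [Nat.card_zpowers, hj]
    exact IsPGroup.of_card hcard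
  have hle : Subgroup.zpowers g ≤ Subgroup.normalizer (T : Set X) := by
    rw [Subgroup.zpowers_le]
    exact hnorm
  have hQ2 : IsPGroup 2 ↥(Subgroup.zpowers g ⊔ T) := IsPGroup.to_sup_of_normal_right' hz2 hT2 hle
  have hQN : Subgroup.zpowers g ⊔ T ≤ N := by
    refine sup_le ?_ hTN
    rw [Subgroup.zpowers_le]
    exact hgNN
  have hQT := hmax _ hQ2 hQN le_sup_right
  apply hgS
  rw [← hQT]
  exact (le_sup_left : Subgroup.zpowers g ≤ _) (Subgroup.mem_zpowers g)

end Cfsg.Agent.Lib.Helper18.SS53
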