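import Mathlib
import Cfsg.Prelude

/-! S3153 farm (architect helper18), leaf L3: tight embedding. If `u ∈ K` is an involution and `g u g⁻¹ ∈ K`
then `g` normalises `K` (else `K ⊓ gKg⁻¹` has odd order but contains the involution `g u g⁻¹`). -/

set_option autoImplicit false

namespace Cfsg.Agent.Lib.Helper18.SS53

theorem mem_normalizer_of_tight {X : Type*} [Group X] [Finite X] (K : Subgroup X)
    (hK : Cfsg.IsTightlyEmbedded K) (g u : X) (hu : orderOf u = 2) (huK : u ∈ K)
    (hguK : g * u * g⁻¹ ∈ K) : g ∈ Subgroup.normalizer (K : Set X) := by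
  by_contra hg
  have hodd := hK.2 g hg
  have hmem : g * u * g⁻¹ ∈ K ⊓ K.map (MulAut.conj g).toMonoidHom := by
    refine ⟨hguK, ?_⟩
    exact ⟨u, huK, by simp [MulAut.conj_apply]⟩
  have ho : orderOf (g * u * g⁻¹) = 2 := by
    have h1 : g * u * g⁻¹ = MulAut.conj g u := by simp [MulAut.conj_apply]
    rw [h1, MulEquiv.orderOf_eq]
    exact hu
  have hw : orderOf (⟨g * u * g⁻¹, hmem⟩ : ↥(K ⊓ K.map (MulAut.conj g).toMonoidHom)) = 2 := by
    rw [Subgroup.orderOf_mk]; exact ho
  have hdvd : 2 ∣ Nat.card ↥(K ⊓ K.map (MulAut.conj g).toMonoidHom) := by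
    rw [← hw]; exact orderOf_dvd_natCard _
  exact (Nat.not_even_iff_odd.mpr hodd) (even_iff_two_dvd.mpr hdvd)

theorem centralizer_le_normalizer_of_tight {X : Type*} [Group X] [Finite X] (K : Subgroup X)
    (hK : Cfsg.IsTightlyEmbedded K) (u : X) (hu : orderOf u = 2) (huK : u ∈ K) :
    Subgroup.centralizer ({u} : Set X) ≤ Subgroup.normalizer (K : Set X) := by
  intro c hc
  refine mem_normalizer_of_tight K hK c u hu huK ?_
  have h : c * u = u * c := by
    have := Subgroup.mem_centralizer_iff.mp hc u (Set.mem_singleton u)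
    exact this.symm
  rw [h, mul_inv_cancel_right]
  exact huK

end Cfsg.Agent.Lib.Helper18.SS53
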