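import Mathlib
import Cfsg.Prelude
import Cfsg.Agent.Lib.Helper9.ClassicalInv

/-! S3153 farm (architect helper18), leaf L4: `K` has 2-rank at most 1, `T` is a 2-group normalising `K`,
`t ∈ T ⊓ K` an involution. Then `t` is central in `T`.
(The 2-group `T ⊓ K` has a central involution `z`; any involution `u` of `T ⊓ K` generates with `z` an
elementary abelian 2-subgroup of `K`, of order at most 2, so `u = z`: `t` is the only involution of
`T ⊓ K`, and `s t s⁻¹` is another one.) -/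

set_option autoImplicit false

namespace Cfsg.Agent.Lib.Helper18.SS53

theorem invol_central {X : Type*} [Group X] [Finite X] (K T : Subgroup X)
    (hr : Cfsg.PRankLE 2 1 ↥K) (hT2 : IsPGroup 2 ↥T)
    (hTK : T ≤ Subgroup.normalizer (K : Set X)) (t : X) (ht : orderOf t = 2) (htT : t ∈ T) (htK : t ∈ K) :
    ∀ s ∈ T, s * t * s⁻¹ = t := by
  intro s hs
  let R : Subgroup ↥K := (T ⊓ K).subgroupOf K
  have hR2 : IsPGroup 2 ↥R := by
    intro x
    have hxT : ((x : ↥K) : X) ∈ T := (Subgroup.mem_subgroupOf.mp x.2).1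
    obtain ⟨n, hn⟩ := hT2 ⟨_, hxT⟩
    refine ⟨n, ?_⟩
    have h1 := congrArg Subtype.val hn
    apply Subtype.ext
    apply Subtype.ext
    simpa using h1
  have hrk : Cfsg.PRankLE 2 1 ↥R := Cfsg.Agent.Lib.Helper9.pRankLE_subgroup hr R
  have huniq := Cfsg.Agent.Lib.Helper9.uniqueOrderP_of_pRankLE_one hR2 hrk
  have hsn := hTK hs
  have huK : s * t * s⁻¹ ∈ K := (Subgroup.mem_normalizer_iff.mp hsn t).mp htK
  have huT : s * t * s⁻¹ ∈ T := T.mul_mem (T.mul_mem hs htT) (T.inv_mem hs)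
  have htR : (⟨t, htK⟩ : ↥K) ∈ R := Subgroup.mem_subgroupOf.mpr ⟨htT, htK⟩
  have huR : (⟨s * t * s⁻¹, huK⟩ : ↥K) ∈ R := Subgroup.mem_subgroupOf.mpr ⟨huT, huK⟩
  have ht2 : t ^ 2 = 1 := by rw [← ht]; exact pow_orderOf_eq_one t
  have ht1 : t ≠ 1 := by
    intro h
    rw [h, orderOf_one] at ht
    norm_num at ht
  have hu2 : (s * t * s⁻¹) ^ 2 = 1 := by
    rw [conj_pow, ht2]; group
  have h1 : (⟨⟨t, htK⟩, htR⟩ : ↥R) ^ 2 = 1 := by
    apply Subtype.ext; apply Subtype.ext; simpa using ht2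
  have h2 : (⟨⟨t, htK⟩, htR⟩ : ↥R) ≠ 1 := by
    intro h
    apply ht1
    have := congrArg (fun r : ↥R => ((r : ↥K) : X)) h
    simpa using this
  have h3 : (⟨⟨s * t * s⁻¹, huK⟩, huR⟩ : ↥R) ^ 2 = 1 := by
    apply Subtype.ext; apply Subtype.ext; simpa using hu2
  have hmem := huniq _ _ h1 h2 h3
  obtain ⟨k, hk⟩ := Subgroup.mem_zpowers_iff.mp hmem
  have hk' : t ^ k = s * t * s⁻¹ := by
    have := congrArg (fun r : ↥R => ((r : ↥K) : X)) hk
    simpa using this
  have hmod : t ^ (k % 2) = t ^ k := by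
    have := zpow_mod_orderOf t k
    rw [ht] at this
    exact_mod_cast this
  rcases Int.emod_two_eq_zero_or_one k with h | h
  · exfalso
    rw [h, zpow_zero] at hmod
    rw [← hmod] at hk'
    apply ht1
    have h5 : s * t * s⁻¹ = 1 := hk'.symm
    have h6 : t = s⁻¹ * (s * t * s⁻¹) * s := by group
    rw [h6, h5]; group
  · rw [h, zpow_one] at hmod
    rw [← hk', ← hmod]

end Cfsg.Agent.Lib.Helper18.SS53
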