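import Mathlib
import Cfsg.Prelude

/-! S3153 farm (architect helper18), leaf L5. `K = C_X(P)` has 2-rank at most 1, `|Z(P)|` is odd, `t ∈ K` and
`t' ∈ P K`, `t' ∉ K` are commuting involutions. Then `t' = a` or `t' = a t` for an involution `a ∈ P`.
(Write `t' = p k`; `p ^ 2 = k ^ (-2) ∈ P ⊓ K = Z(P)` has odd order `m`, so `a := p ^ m` satisfies `a ^ 2 = 1`
and `b := t' a⁻¹ = p ^ (1 - m) k ∈ K` (as `p ^ (1-m)` is a power of `p ^ 2`), `b ^ 2 = 1`, `b` commutes with `t`.
If `a = 1` then `t' ∈ K`. `{1, b, t, b t}` is an elementary abelian 2-subgroup of `K`, so `b = 1` or `b = t`.) -/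

set_option autoImplicit false

namespace Cfsg.Agent.Lib.Helper18.SS53

namespace L5

variable {X : Type*} [Group X]

/-- the product set `P * C_X(P)` as a subgroup -/
def prodPK (P : Subgroup X) : Subgroup X where
  carrier := {x | ∃ p ∈ P, ∃ k ∈ Subgroup.centralizer (P : Set X), x = p * k}
  one_mem' := ⟨1, P.one_mem, 1, Subgroup.one_mem _, (mul_one 1).symm⟩
  mul_mem' := by
    rintro _ _ ⟨p, hp, k, hk, rfl⟩ ⟨p', hp', k', hk', rfl⟩
    refine ⟨p * p', P.mul_mem hp hp', k * k', Subgroup.mul_mem _ hk hk', ?_⟩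
    have h1 : p' * k = k * p' := Subgroup.mem_centralizer_iff.mp hk p' hp'
    calc p * k * (p' * k') = p * (k * p') * k' := by group
      _ = p * (p' * k) * k' := by rw [h1]
      _ = p * p' * (k * k') := by group
  inv_mem' := by
    rintro _ ⟨p, hp, k, hk, rfl⟩
    refine ⟨p⁻¹, P.inv_mem hp, k⁻¹, Subgroup.inv_mem _ hk, ?_⟩
    have h1 : p * k = k * p := Subgroup.mem_centralizer_iff.mp hk p hp
    rw [h1, mul_inv_rev]

/-- elements of square one in a subgroup with pairwise commuting elements -/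
def sqOne (M : Subgroup X) (hM : ∀ a ∈ M, ∀ b ∈ M, a * b = b * a) : Subgroup X where
  carrier := {x | x ∈ M ∧ x ^ 2 = 1}
  one_mem' := ⟨M.one_mem, one_pow 2⟩
  mul_mem' := by
    rintro a b ⟨ha, ha2⟩ ⟨hb, hb2⟩
    refine ⟨M.mul_mem ha hb, ?_⟩
    have hc : Commute a b := hM a ha b hb
    rw [hc.mul_pow, ha2, hb2, one_mul]
  inv_mem' := by
    rintro a ⟨ha, ha2⟩
    exact ⟨M.inv_mem ha, by rw [inv_pow, ha2, inv_one]⟩

/-- two commuting elements of square one in a group of 2-rank at most 1 -/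
theorem eq_of_rank_one {K : Type*} [Group K] [Finite K] (hr : Cfsg.PRankLE 2 1 K) (b t : K)
    (hb : b ^ 2 = 1) (ht : t ^ 2 = 1) (hbt : b * t = t * b) (ht1 : t ≠ 1) : b = 1 ∨ b = t := by
  have hMu : Subgroup.zpowers b ⊔ Subgroup.zpowers t ≤ Subgroup.centralizer {t} := by
    refine sup_le ?_ ?_
    · rw [Subgroup.zpowers_le, Subgroup.mem_centralizer_singleton_iff]
      exact hbt
    · rw [Subgroup.zpowers_le, Subgroup.mem_centralizer_singleton_iff]
  have hMb : Subgroup.zpowers b ⊔ Subgroup.zpowers t ≤ Subgroup.centralizer {b} := by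
    refine sup_le ?_ ?_
    · rw [Subgroup.zpowers_le, Subgroup.mem_centralizer_singleton_iff]
    · rw [Subgroup.zpowers_le, Subgroup.mem_centralizer_singleton_iff]
      exact hbt.symm
  have hMab : ∀ x ∈ Subgroup.zpowers b ⊔ Subgroup.zpowers t,
      ∀ y ∈ Subgroup.zpowers b ⊔ Subgroup.zpowers t, x * y = y * x := by
    intro x hx y hy
    have hle : Subgroup.zpowers b ⊔ Subgroup.zpowers t ≤ Subgroup.centralizer {x} := by
      refine sup_le ?_ ?_
      · rw [Subgroup.zpowers_le, Subgroup.mem_centralizer_singleton_iff]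
        have := hMb hx
        rw [Subgroup.mem_centralizer_singleton_iff] at this
        exact this.symm
      · rw [Subgroup.zpowers_le, Subgroup.mem_centralizer_singleton_iff]
        have := hMu hx
        rw [Subgroup.mem_centralizer_singleton_iff] at this
        exact this.symm
    have := hle hy
    rw [Subgroup.mem_centralizer_singleton_iff] at this
    exact this.symm
  have hMexp : Subgroup.zpowers b ⊔ Subgroup.zpowers t ≤ sqOne _ hMab := by
    refine sup_le ?_ ?_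
    · rw [Subgroup.zpowers_le]
      exact ⟨le_sup_left (b := Subgroup.zpowers t) (Subgroup.mem_zpowers b), hb⟩
    · rw [Subgroup.zpowers_le]
      exact ⟨le_sup_right (a := Subgroup.zpowers b) (Subgroup.mem_zpowers t), ht⟩
  have hcard : Nat.card (Subgroup.zpowers b ⊔ Subgroup.zpowers t : Subgroup K) ≤ 2 ^ 1 := by
    apply hr
    · rw [isMulCommutative_iff]
      intro x y
      exact Subtype.ext (hMab x x.2 y y.2)
    · intro a ha
      exact (hMexp ha).2
  by_contra hcon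
  push Not at hcon
  have hbM : b ∈ Subgroup.zpowers b ⊔ Subgroup.zpowers t :=
    le_sup_left (b := Subgroup.zpowers t) (Subgroup.mem_zpowers b)
  have htM : t ∈ Subgroup.zpowers b ⊔ Subgroup.zpowers t :=
    le_sup_right (a := Subgroup.zpowers b) (Subgroup.mem_zpowers t)
  let f : Fin 3 → (Subgroup.zpowers b ⊔ Subgroup.zpowers t : Subgroup K) :=
    ![1, ⟨t, htM⟩, ⟨b, hbM⟩]
  have hf : Function.Injective f := by
    intro i j hij
    fin_cases i <;> fin_cases j <;> simp [f, Subtype.ext_iff] at hij ⊢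
    · exact absurd hij.symm ht1
    · exact absurd hij.symm hcon.1
    · exact absurd hij ht1
    · exact absurd hij.symm hcon.2
    · exact absurd hij hcon.1
    · exact absurd hij hcon.2
  have h3 := Nat.card_le_card_of_injective f hf
  rw [Nat.card_eq_fintype_card, Fintype.card_fin] at h3
  omega

end L5

theorem decomp {X : Type*} [Group X] [Finite X] (P : Subgroup X)
    (hZ : Odd (Nat.card ↥(Subgroup.center ↥P)))
    (hr : Cfsg.PRankLE 2 1 ↥(Subgroup.centralizer (P : Set X))) (t t' : X) (ht : orderOf t = 2)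
    (ht' : orderOf t' = 2) (htK : t ∈ Subgroup.centralizer (P : Set X)) (hcomm : t * t' = t' * t)
    (ht'PK : t' ∈ P ⊔ Subgroup.centralizer (P : Set X))
    (ht'K : t' ∉ Subgroup.centralizer (P : Set X)) :
    ∃ a ∈ P, orderOf a = 2 ∧ (t' = a ∨ t' = a * t) := by
  have : Fact (Nat.Prime 2) := ⟨Nat.prime_two⟩
  -- `t' = p k`
  have hle : P ⊔ Subgroup.centralizer (P : Set X) ≤ L5.prodPK P := by
    refine sup_le ?_ ?_
    · intro p hp
      exact ⟨p, hp, 1, Subgroup.one_mem _, (mul_one p).symm⟩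
    · intro k hk
      exact ⟨1, P.one_mem, k, hk, (one_mul k).symm⟩
  obtain ⟨p, hp, k, hk, hpk⟩ := hle ht'PK
  have hkc : ∀ y ∈ P, y * k = k * y := fun y hy => Subgroup.mem_centralizer_iff.mp hk y hy
  have hpkc : p * k = k * p := hkc p hp
  have ht'2 : t' ^ 2 = 1 := by rw [← ht']; exact pow_orderOf_eq_one t'
  have ht2 : t ^ 2 = 1 := by rw [← ht]; exact pow_orderOf_eq_one t
  -- `z = p ^ 2 = (k ^ 2)⁻¹`
  have hz : p ^ 2 * k ^ 2 = 1 := by
    have hc : Commute p k := hpkc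
    rw [← hc.mul_pow, ← hpk]; exact ht'2
  have hzK : p ^ 2 ∈ Subgroup.centralizer (P : Set X) := by
    have : p ^ 2 = (k ^ 2)⁻¹ := eq_inv_of_mul_eq_one_left hz
    rw [this]
    exact Subgroup.inv_mem _ (Subgroup.pow_mem _ hk 2)
  have hzc : (⟨p ^ 2, P.pow_mem hp 2⟩ : ↥P) ∈ Subgroup.center ↥P := by
    rw [Subgroup.mem_center_iff]
    intro y
    apply Subtype.ext
    exact Subgroup.mem_centralizer_iff.mp hzK y y.2
  obtain ⟨c, hc⟩ : ∃ c, c = Nat.card ↥(Subgroup.center ↥P) := ⟨_, rfl⟩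
  have hcodd : Odd c := hc ▸ hZ
  have hzpow : (p ^ 2) ^ c = 1 := by
    have h1 : (⟨⟨p ^ 2, P.pow_mem hp 2⟩, hzc⟩ : ↥(Subgroup.center ↥P)) ^ c = 1 := by
      rw [hc]; exact pow_card_eq_one'
    have h2 := congrArg (fun x : ↥(Subgroup.center ↥P) => ((x : ↥P) : X)) h1
    simpa using h2
  obtain ⟨e, he⟩ := hcodd
  -- `a = p ^ c`
  have ha2 : (p ^ c) ^ 2 = 1 := by rw [← pow_mul, mul_comm, pow_mul]; exact hzpow
  have haP : p ^ c ∈ P := P.pow_mem hp c
  -- `b = t' * a⁻¹ ∈ K`
  have hbeq : t' * (p ^ c)⁻¹ = ((p ^ 2) ^ e)⁻¹ * k := by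
    rw [hpk, he]
    have h1 : p ^ (2 * e + 1) = p * (p ^ 2) ^ e := by rw [pow_succ', pow_mul]
    rw [h1, mul_inv_rev]
    have hc' : Commute k (((p ^ 2) ^ e)⁻¹) := by
      have : Commute (p ^ 2) k := (Commute.pow_left (show Commute p k from hpkc) 2)
      exact ((this.pow_left e).inv_left).symm
    calc p * k * (((p ^ 2) ^ e)⁻¹ * p⁻¹) = p * (k * ((p ^ 2) ^ e)⁻¹) * p⁻¹ := by group
      _ = p * (((p ^ 2) ^ e)⁻¹ * k) * p⁻¹ := by rw [hc'.eq]
      _ = (p * ((p ^ 2) ^ e)⁻¹) * (k * p⁻¹) := by group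
      _ = (((p ^ 2) ^ e)⁻¹ * p) * (p⁻¹ * k) := by
          have h3 : Commute p (((p ^ 2) ^ e)⁻¹) :=
            (((Commute.refl p).pow_right 2).pow_right e).inv_right
          have h4 : k * p⁻¹ = p⁻¹ * k := (hkc p⁻¹ (P.inv_mem hp)).symm
          rw [h3.eq, h4]
      _ = ((p ^ 2) ^ e)⁻¹ * k := by group
  have hbK : t' * (p ^ c)⁻¹ ∈ Subgroup.centralizer (P : Set X) := by
    rw [hbeq]
    exact Subgroup.mul_mem _ (Subgroup.inv_mem _ (Subgroup.pow_mem _ hzK e)) hk
  -- `a` commutes with `t'` and `t`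
  have hat' : Commute t' (p ^ c) := by
    rw [hpk]
    have h1 : Commute p (p ^ c) := (Commute.refl p).pow_right c
    have h2 : Commute k (p ^ c) := (hkc (p ^ c) haP).symm
    exact h1.mul_left h2
  have hat : Commute t (p ^ c) := (Subgroup.mem_centralizer_iff.mp htK (p ^ c) haP).symm
  have hb2 : (t' * (p ^ c)⁻¹) ^ 2 = 1 := by
    rw [(hat'.inv_right).mul_pow, ht'2, inv_pow, ha2, inv_one, mul_one]
  have hbt : (t' * (p ^ c)⁻¹) * t = t * (t' * (p ^ c)⁻¹) := by
    have h1 : Commute t t' := hcomm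
    exact ((h1.mul_right hat.inv_right).eq).symm
  have ht1 : t ≠ 1 := by
    intro h; rw [h, orderOf_one] at ht; omega
  -- `a ≠ 1`
  have ha1 : p ^ c ≠ 1 := by
    intro h
    apply ht'K
    have := hbK
    rwa [h, inv_one, mul_one] at this
  have haord : orderOf (p ^ c) = 2 := orderOf_eq_prime ha2 ha1
  refine ⟨p ^ c, haP, haord, ?_⟩
  -- rank one in `K`
  have hcases := L5.eq_of_rank_one hr
    (⟨t' * (p ^ c)⁻¹, hbK⟩ : ↥(Subgroup.centralizer (P : Set X))) ⟨t, htK⟩
    (Subtype.ext hb2) (Subtype.ext ht2) (Subtype.ext hbt)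
    (fun h => ht1 (congrArg Subtype.val h))
  rcases hcases with h | h
  · left
    have h' : t' * (p ^ c)⁻¹ = 1 := congrArg Subtype.val h
    exact mul_inv_eq_one.mp h'
  · right
    have h' : t' * (p ^ c)⁻¹ = t := congrArg Subtype.val h
    rw [← hat.eq, ← h']
    group
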