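import Mathlib
import Cfsg.Prelude
import Cfsg.Agent.Lib.Helper9.Layer

/-! S3153 farm (architect helper18), leaf L6. `P` quasisimple containing an involution, `D` a normal subgroup of
odd order of `X`: then `P ⊓ D` is central in `P`.
(`(P ⊓ D).subgroupOf P` is normal in `↥P`; by `Cfsg.Agent.Lib.Helper9.qs_normal_le_center_or_eq_top` it is central or
everything; in the latter case `a ∈ D`, of odd order.) -/

set_option autoImplicit false

namespace Cfsg.Agent.Lib.Helper18.SS53

theorem inf_odd_normal_central {X : Type*} [Group X] [Finite X] (P : Subgroup X)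
    (hq : Cfsg.IsQuasisimple ↥P) (a : X) (haP : a ∈ P) (ha : orderOf a = 2)
    (D : Subgroup X) [D.Normal] (hD : Odd (Nat.card ↥D)) :
    ∀ x ∈ P ⊓ D, ∀ y ∈ P, x * y = y * x := by
  intro x hx y hy
  have hN : ((P ⊓ D).subgroupOf P).Normal := by
    have h1 : (P ⊓ D).subgroupOf P = D.subgroupOf P := by
      ext z
      simp [Subgroup.mem_subgroupOf]
    rw [h1]
    infer_instance
  rcases Cfsg.Agent.Lib.Helper9.qs_normal_le_center_or_eq_top hq ((P ⊓ D).subgroupOf P) with h | h
  · have hxm : (⟨x, hx.1⟩ : ↥P) ∈ (P ⊓ D).subgroupOf P := by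
      rw [Subgroup.mem_subgroupOf]
      exact hx
    have hc := h hxm
    have := Subgroup.mem_center_iff.mp hc ⟨y, hy⟩
    have h2 := congrArg Subtype.val this
    simpa using h2.symm
  · exfalso
    have haD : a ∈ D := by
      have : (⟨a, haP⟩ : ↥P) ∈ (P ⊓ D).subgroupOf P := by
        rw [h]; exact Subgroup.mem_top _
      rw [Subgroup.mem_subgroupOf] at this
      exact this.2
    have hdvd : 2 ∣ Nat.card ↥D := by
      have h2 : orderOf (⟨a, haD⟩ : ↥D) = 2 := by
        rw [← ha]
        exact Subgroup.orderOf_mk _ haD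
      rw [← h2]
      exact orderOf_dvd_natCard _
    exact (Nat.not_even_iff_odd.mpr hD) (even_iff_two_dvd.mpr hdvd)

end Cfsg.Agent.Lib.Helper18.SS53
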