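import Mathlib
import Cfsg.Prelude

/-! S3153 farm (architect helper18), leaf L7. `P` quasisimple (only perfectness is used), `d` normalises `P` and every
commutator `d y d⁻¹ y⁻¹` (`y ∈ P`) is central in `P`. Then `d` centralises `P`.
(`y ↦ d y d⁻¹ y⁻¹` is then a homomorphism from `P` to the abelian group `Z(P)`, so it kills the commutator
subgroup of `P`, which is `P`.) -/

set_option autoImplicit false

namespace Cfsg.Agent.Lib.Helper18.SS53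

namespace L7

theorem comm_left {X : Type*} [Group X] (c y z : X) (h1 : Commute c y) (h2 : Commute c z) :
    (c * y) * z * (c * y)⁻¹ * z⁻¹ = y * z * y⁻¹ * z⁻¹ := by
  have h3 : Commute c (y * z * y⁻¹) := (h1.mul_right h2).mul_right h1.inv_right
  calc (c * y) * z * (c * y)⁻¹ * z⁻¹ = c * (y * z * y⁻¹) * c⁻¹ * z⁻¹ := by group
    _ = (y * z * y⁻¹) * c * c⁻¹ * z⁻¹ := by rw [h3.eq]
    _ = y * z * y⁻¹ * z⁻¹ := by group

theorem comm_right {X : Type*} [Group X] (c y z : X) (h1 : Commute c y) (h2 : Commute c z) :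
    y * (c * z) * y⁻¹ * (c * z)⁻¹ = y * z * y⁻¹ * z⁻¹ := by
  have h3 : Commute c (y * z * y⁻¹ * z⁻¹) :=
    ((h1.mul_right h2).mul_right h1.inv_right).mul_right h2.inv_right
  calc y * (c * z) * y⁻¹ * (c * z)⁻¹ = (y * c) * (z * y⁻¹ * z⁻¹) * c⁻¹ := by group
    _ = (c * y) * (z * y⁻¹ * z⁻¹) * c⁻¹ := by rw [h1.eq]
    _ = c * (y * z * y⁻¹ * z⁻¹) * c⁻¹ := by group
    _ = (y * z * y⁻¹ * z⁻¹) * c * c⁻¹ := by rw [h3.eq]
    _ = y * z * y⁻¹ * z⁻¹ := by group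

theorem key {X : Type*} [Group X] (u v y z : X) (h1 : Commute (u * y⁻¹) y)
    (h2 : Commute (u * y⁻¹) v) (h3 : Commute (v * z⁻¹) y) (h4 : Commute (v * z⁻¹) z) :
    u * v * u⁻¹ * v⁻¹ = y * z * y⁻¹ * z⁻¹ := by
  have e1 : u = (u * y⁻¹) * y := by group
  have e2 : v = (v * z⁻¹) * z := by group
  calc u * v * u⁻¹ * v⁻¹ = ((u * y⁻¹) * y) * v * ((u * y⁻¹) * y)⁻¹ * v⁻¹ := by rw [← e1]
    _ = y * v * y⁻¹ * v⁻¹ := comm_left _ _ _ h1 h2
    _ = y * ((v * z⁻¹) * z) * y⁻¹ * ((v * z⁻¹) * z)⁻¹ := by rw [← e2]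
    _ = y * z * y⁻¹ * z⁻¹ := comm_right _ _ _ h3 h4

end L7

theorem centralizes_of_comm_central {X : Type*} [Group X] [Finite X] (P : Subgroup X)
    (hq : Cfsg.IsQuasisimple ↥P) (d : X) (hdN : d ∈ Subgroup.normalizer (P : Set X))
    (hd : ∀ y ∈ P, ∀ z ∈ P, (d * y * d⁻¹ * y⁻¹) * z = z * (d * y * d⁻¹ * y⁻¹)) :
    d ∈ Subgroup.centralizer (P : Set X) := by
  have hperf : ⁅P, P⁆ = P := Subgroup.isPerfect_iff.mp hq.1
  have hconj : ∀ z ∈ P, d * z * d⁻¹ ∈ P :=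
    fun z hz => (Subgroup.mem_normalizer_iff.mp hdN z).mp hz
  have hle : ⁅P, P⁆ ≤ Subgroup.centralizer ({d} : Set X) := by
    rw [Subgroup.commutator_le]
    intro y hy z hz
    rw [Subgroup.mem_centralizer_singleton_iff, commutatorElement_def]
    have e1 : (d * y * d⁻¹) * (d * z * d⁻¹) * (d * y * d⁻¹)⁻¹ * (d * z * d⁻¹)⁻¹ =
        y * z * y⁻¹ * z⁻¹ :=
      L7.key _ _ _ _ (hd y hy y hy) (hd y hy _ (hconj z hz)) (hd z hz y hy) (hd z hz z hz)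
    have e2 : d * (y * z * y⁻¹ * z⁻¹) * d⁻¹ =
        (d * y * d⁻¹) * (d * z * d⁻¹) * (d * y * d⁻¹)⁻¹ * (d * z * d⁻¹)⁻¹ := by group
    calc (y * z * y⁻¹ * z⁻¹) * d = (d * (y * z * y⁻¹ * z⁻¹) * d⁻¹) * d := by rw [e2, e1]
      _ = d * (y * z * y⁻¹ * z⁻¹) := by group
  rw [hperf] at hle
  rw [Subgroup.mem_centralizer_iff]
  intro y hy
  have h1 := hle hy
  rw [Subgroup.mem_centralizer_singleton_iff] at h1
  exact h1

end Cfsg.Agent.Lib.Helper18.SS53
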