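import Mathlib
import Cfsg.Prelude
import Cfsg.Agent.Lib.Helper12.Hall4A

/-! S3153 farm (architect helper18), leaf L8. `D` normal of odd order, `t`, `t'` commuting involutions with
`C_D(t) ≤ C(t')` and `C_D(t') ≤ C(t)`. Then `t t'` centralises `D`.
(Brauer-Wielandt, `Cfsg.Agent.Lib.Helper12.Hall4.brauer_wielandt`:
`|D| |C_D(t) ⊓ C_D(t')| ^ 2 = |C_D(t)| |C_D(t')| |C_D(t t')|` and the three groups
`C_D(t)`, `C_D(t')`, `C_D(t) ⊓ C_D(t')` coincide, so `|D| = |C_D(t t')|`.) -/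

set_option autoImplicit false

namespace Cfsg.Agent.Lib.Helper18.SS53

theorem prod_centralizes {X : Type*} [Group X] [Finite X] (D : Subgroup X) [D.Normal]
    (hD : Odd (Nat.card ↥D)) (t t' : X) (ht : orderOf t = 2) (ht' : orderOf t' = 2)
    (hcomm : t * t' = t' * t)
    (h1 : D ⊓ Subgroup.centralizer {t} ≤ Subgroup.centralizer {t'})
    (h2 : D ⊓ Subgroup.centralizer {t'} ≤ Subgroup.centralizer {t}) :
    D ≤ Subgroup.centralizer {t * t'} := by
  classical
  haveI : Fintype X := Fintype.ofFinite X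
  have ht2 : t * t = 1 := by rw [← pow_two, ← ht]; exact pow_orderOf_eq_one t
  have ht'2 : t' * t' = 1 := by rw [← pow_two, ← ht']; exact pow_orderOf_eq_one t'
  have hN : ∀ x : X, ∀ h ∈ D, x * h * x⁻¹ ∈ D :=
    fun x h hh => Subgroup.Normal.conj_mem inferInstance h hh x
  have bw := Cfsg.Agent.Lib.Helper12.Hall4.brauer_wielandt D hD ht2 ht'2 hcomm (hN t) (hN t')
  have hA : D ⊓ Subgroup.centralizer {t} =
      D ⊓ Subgroup.centralizer {t} ⊓ Subgroup.centralizer {t'} := by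
    apply le_antisymm
    · exact le_inf le_rfl h1
    · exact inf_le_left
  have hB : D ⊓ Subgroup.centralizer {t'} =
      D ⊓ Subgroup.centralizer {t} ⊓ Subgroup.centralizer {t'} := by
    apply le_antisymm
    · intro x hx; exact ⟨⟨hx.1, h2 hx⟩, hx.2⟩
    · intro x hx; exact ⟨hx.1.1, hx.2⟩
  rw [hB] at bw
  rw [← hA] at bw
  have hIpos : 0 < Nat.card ↥(D ⊓ Subgroup.centralizer {t}) := Nat.card_pos
  have hcard : Nat.card ↥D = Nat.card ↥(D ⊓ Subgroup.centralizer {t * t'}) := by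
    have h3 : Nat.card ↥(D ⊓ Subgroup.centralizer {t}) ^ 2 * Nat.card ↥D =
        Nat.card ↥(D ⊓ Subgroup.centralizer {t}) ^ 2 *
          Nat.card ↥(D ⊓ Subgroup.centralizer {t * t'}) := by
      calc Nat.card ↥(D ⊓ Subgroup.centralizer {t}) ^ 2 * Nat.card ↥D
          = Nat.card ↥D * Nat.card ↥(D ⊓ Subgroup.centralizer {t}) ^ 2 := mul_comm _ _
        _ = Nat.card ↥(D ⊓ Subgroup.centralizer {t}) * Nat.card ↥(D ⊓ Subgroup.centralizer {t}) *
              Nat.card ↥(D ⊓ Subgroup.centralizer {t * t'}) := bw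
        _ = _ := by ring
    exact Nat.eq_of_mul_eq_mul_left (by positivity) h3
  have heq : D ⊓ Subgroup.centralizer {t * t'} = D :=
    Subgroup.eq_of_le_of_card_ge inf_le_left hcard.le
  intro x hx
  rw [← heq] at hx
  exact hx.2

end Cfsg.Agent.Lib.Helper18.SS53
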