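import Mathlib
import Cfsg.Prelude
import Cfsg.Agent.Lib.Helper9.Layer
import Cfsg.Agent.Lib.Helper9.PComp2

/-! S3153 farm (architect helper18), leaf L9. `P` quasisimple with `|Z(P)|` odd, `D` normal in `X`, `a ∈ P` an involution,
`s ∈ C_X(P)` and `a s` centralises `D`. Then `[P, D] = 1`.
(On `D`, conjugation by `a` equals conjugation by `s⁻¹`, which commutes with the conjugations by elements of `P`;
hence every commutator `a y a⁻¹ y⁻¹` (`y ∈ P`) centralises `D`. `Ker := {y ∈ P | y centralises D}` is normal in `P`;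
by `Cfsg.Agent.Lib.Helper9.qs_normal_le_center_or_eq_top` it is `P` (done) or central; in the latter case `[a, P] ≤ Z(P)`, so
`a ∈ Z(P)` by `Cfsg.Agent.Lib.Helper9.le_center_of_commutator_le_center` (Gruen), impossible as `|Z(P)|` is odd.) -/

set_option autoImplicit false

namespace Cfsg.Agent.Lib.Helper18.SS53

theorem comm_eq_bot {X : Type*} [Group X] [Finite X] (P : Subgroup X)
    (hq : Cfsg.IsQuasisimple ↥P) (hZ : Odd (Nat.card ↥(Subgroup.center ↥P)))
    (D : Subgroup X) [D.Normal] (a s : X) (haP : a ∈ P) (ha : orderOf a = 2)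
    (hs : s ∈ Subgroup.centralizer (P : Set X)) (hc : D ≤ Subgroup.centralizer {a * s}) :
    ⁅P, D⁆ = ⊥ := by
  classical
  -- basic relations
  have hDn : ∀ (g d : X), d ∈ D → g * d * g⁻¹ ∈ D := fun g d hd => ‹D.Normal›.conj_mem d hd g
  have hsy : ∀ y ∈ P, s * y = y * s := by
    intro y hy
    have := (Subgroup.mem_centralizer_iff.mp hs) y hy
    exact this.symm
  have has : ∀ d ∈ D, (a * s) * d = d * (a * s) := by
    intro d hd
    have := Subgroup.mem_centralizer_iff.mp (hc hd) (a * s) (Set.mem_singleton _)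
    exact this
  -- conj by a⁻¹ on D equals conj by s
  have key : ∀ d ∈ D, a⁻¹ * d * a = s * d * s⁻¹ := by
    intro d hd
    have h1 := has d hd
    -- a s d = d a s  ⇒ s d s⁻¹ = a⁻¹ d a
    have : s * d * s⁻¹ = a⁻¹ * (a * s * d) * s⁻¹ := by group
    rw [this, h1]; group
  -- the kernel
  let Ker : Subgroup ↥P := (Subgroup.centralizer (D : Set X)).subgroupOf P
  have hKer_mem : ∀ y : ↥P, y ∈ Ker ↔ ∀ d ∈ D, d * (y : X) = (y : X) * d := by
    intro y
    simp only [Ker, Subgroup.mem_subgroupOf, Subgroup.mem_centralizer_iff]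
    rfl
  have hKerN : Ker.Normal := by
    constructor
    intro y hy g
    rw [hKer_mem] at hy ⊢
    intro d hd
    have hd' : (g : X)⁻¹ * d * ((g : X)⁻¹)⁻¹ ∈ D := hDn _ d hd
    have h2 := hy _ hd'
    simp only [Subgroup.coe_mul, Subgroup.coe_inv]
    have e1 : d * ((g : X) * (y : X) * (g : X)⁻¹) = (g : X) * (((g : X)⁻¹ * d * ((g : X)⁻¹)⁻¹) * (y : X)) * (g : X)⁻¹ := by group
    rw [e1, h2]; group
  -- commutators [a, y] lie in Ker
  have hcomm : ∀ y : ↥P, (⟨a, haP⟩ : ↥P) * y * (⟨a, haP⟩ : ↥P)⁻¹ * y⁻¹ ∈ Ker := by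
    intro y
    rw [hKer_mem]
    intro d hd
    simp only [Subgroup.coe_mul, Subgroup.coe_inv]
    set y' : X := (y : X) with hy'
    have hyP : y' ∈ P := y.2
    -- show c d c⁻¹ = d
    have hd1 : y'⁻¹ * d * y' ∈ D := by
      have := hDn y'⁻¹ d hd; simpa using this
    have k1 := key _ hd1
    have hsy' := hsy y' hyP
    have hsyi : s⁻¹ * y'⁻¹ = y'⁻¹ * s⁻¹ := by
      have : (y' * s)⁻¹ = (s * y')⁻¹ := by rw [hsy']
      simpa [mul_inv_rev] using this
    have hasd := has d hd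
    -- c * d * c⁻¹ = d
    have hcd : (a * y' * a⁻¹ * y'⁻¹) * d * (a * y' * a⁻¹ * y'⁻¹)⁻¹ = d := by
      have e1 : (a * y' * a⁻¹ * y'⁻¹) * d * (a * y' * a⁻¹ * y'⁻¹)⁻¹
          = a * y' * (a⁻¹ * (y'⁻¹ * d * y') * a) * y'⁻¹ * a⁻¹ := by group
      rw [e1, k1]
      have e2 : a * y' * (s * (y'⁻¹ * d * y') * s⁻¹) * y'⁻¹ * a⁻¹
          = a * (y' * s * y'⁻¹) * d * (y' * s⁻¹ * y'⁻¹) * a⁻¹ := by group
      rw [e2]
      have e3 : y' * s * y'⁻¹ = s := by rw [← hsy']; group
      have e4 : y' * s⁻¹ * y'⁻¹ = s⁻¹ := by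
        have : y' * s⁻¹ * y'⁻¹ = (y' * s * y'⁻¹)⁻¹ := by group
        rw [this, e3]
      rw [e3, e4]
      have e5 : a * s * d * s⁻¹ * a⁻¹ = (a * s * d) * (a * s)⁻¹ := by group
      rw [e5, hasd]; group
    have : d * (a * y' * a⁻¹ * y'⁻¹) = (a * y' * a⁻¹ * y'⁻¹) * d := by
      have := congrArg (fun z => z * (a * y' * a⁻¹ * y'⁻¹)) hcd
      simp only [inv_mul_cancel_right] at this
      exact this.symm
    exact this
  -- dichotomy
  rcases Cfsg.Agent.Lib.Helper9.qs_normal_le_center_or_eq_top hq Ker with hcen | htop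
  · exfalso
    -- a' central in P
    have hperf : commutator ↥P = ⊤ := hq.1.commutator_eq_top
    have hM : ⁅Subgroup.zpowers (⟨a, haP⟩ : ↥P), (⊤ : Subgroup ↥P)⁆ ≤ Subgroup.center ↥P := by
      rw [Subgroup.commutator_le]
      intro m hm y _
      have ha2 : a * a = 1 := by
        have := pow_orderOf_eq_one a; rw [ha, pow_two] at this; exact this
      have hm' : m = 1 ∨ m = ⟨a, haP⟩ := by
        obtain ⟨k, rfl⟩ := Subgroup.mem_zpowers_iff.mp hm
        have ha'2 : (⟨a, haP⟩ : ↥P) * ⟨a, haP⟩ = 1 := by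
          apply Subtype.ext; simpa using ha2
        rcases Int.even_or_odd k with ⟨j, hj⟩ | ⟨j, hj⟩
        · left
          rw [hj, ← two_mul, zpow_mul, zpow_two, ha'2, one_zpow]
        · right
          rw [hj, zpow_add, zpow_mul, zpow_two, ha'2, one_zpow, one_mul, zpow_one]
      rcases hm' with rfl | rfl
      · simp [commutatorElement_def]
      · have := hcen (hcomm y)
        simpa [commutatorElement_def] using this
    have hacen := Cfsg.Agent.Lib.Helper9.le_center_of_commutator_le_center hperf _ hM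
      (Subgroup.mem_zpowers (⟨a, haP⟩ : ↥P))
    -- order 2 element in center, center has odd order
    have ho : orderOf (⟨⟨a, haP⟩, hacen⟩ : ↥(Subgroup.center ↥P)) = 2 := by
      rw [← ha]
      have h1 : orderOf ((⟨⟨a, haP⟩, hacen⟩ : ↥(Subgroup.center ↥P)) : ↥P) = orderOf (⟨⟨a, haP⟩, hacen⟩ : ↥(Subgroup.center ↥P)) := Subgroup.orderOf_coe _
      have h2 : orderOf ((⟨a, haP⟩ : ↥P) : X) = orderOf (⟨a, haP⟩ : ↥P) := Subgroup.orderOf_coe _
      rw [← h1]; simp only; rw [← h2]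
    have hdvd : 2 ∣ Nat.card ↥(Subgroup.center ↥P) := by
      rw [← ho]; exact orderOf_dvd_natCard _
    exact (Nat.not_even_iff_odd.mpr hZ) (even_iff_two_dvd.mpr hdvd)
  · rw [Subgroup.commutator_eq_bot_iff_le_centralizer]
    intro y hy
    have : (⟨y, hy⟩ : ↥P) ∈ Ker := by rw [htop]; trivial
    rw [hKer_mem] at this
    rw [Subgroup.mem_centralizer_iff]
    intro d hd
    exact this d hd

end Cfsg.Agent.Lib.Helper18.SS53
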