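import Mathlib
import Cfsg.Prelude
import Cfsg.Agent.Lib.Helper1.Cores
import Cfsg.Agent.Lib.Helper18.SS53.L1
import Cfsg.Agent.Lib.Helper18.SS53.L2
import Cfsg.Agent.Lib.Helper18.SS53.L3
import Cfsg.Agent.Lib.Helper18.SS53.L4
import Cfsg.Agent.Lib.Helper18.SS53.L5
import Cfsg.Agent.Lib.Helper18.SS53.L6
import Cfsg.Agent.Lib.Helper18.SS53.L7
import Cfsg.Agent.Lib.Helper18.SS53.L8
import Cfsg.Agent.Lib.Helper18.SS53.L9
import Cfsg.Agent.Lib.Helper18.SS53.L11

/-! S3153 farm (architect helper18): assembly. -/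

set_option autoImplicit false

namespace Cfsg.Agent.Lib.Helper18.SS53

theorem main {X : Type*} [Group X] [Finite X] (P : Subgroup X) (hP : Cfsg.IsStandardSubgroup P)
    (hr : Cfsg.PRankLE 2 1 ↥(Subgroup.centralizer (P : Set X)))
    (hZ : Odd (Nat.card ↥(Subgroup.center ↥P)))
    (S : Sylow 2 ↥(Subgroup.normalizer (P : Set X))) (t : X) (ht : orderOf t = 2)
    (htS : t ∈ (S : Subgroup ↥(Subgroup.normalizer (P : Set X))).map (Subgroup.normalizer (P : Set X)).subtype)
    (htP : t ∈ Subgroup.centralizer (P : Set X))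
    (g : X) (hgN : ∀ s ∈ (S : Subgroup ↥(Subgroup.normalizer (P : Set X))).map (Subgroup.normalizer (P : Set X)).subtype, g * s * g⁻¹ ∈ (S : Subgroup ↥(Subgroup.normalizer (P : Set X))).map (Subgroup.normalizer (P : Set X)).subtype)
    (hgS : g ∉ (S : Subgroup ↥(Subgroup.normalizer (P : Set X))).map (Subgroup.normalizer (P : Set X)).subtype)
    (hg2 : g ^ 2 ∈ (S : Subgroup ↥(Subgroup.normalizer (P : Set X))).map (Subgroup.normalizer (P : Set X)).subtype)
    (hgt : g * t * g⁻¹ ∈ P ⊔ Subgroup.centralizer (P : Set X)) :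
    ⁅P, Cfsg.oddCore X⁆ = ⊥ ∧
      ∀ L : Subgroup X, Cfsg.IsPComponent 2 L → P ≤ L → (∀ l ∈ L, t * l * t⁻¹ ∈ L) → Cfsg.IsQuasisimple ↥L := by
  obtain ⟨hq, htight, -, hNN⟩ := hP
  obtain ⟨hT2, hTN, hmax⟩ := sylow_max (Subgroup.normalizer (P : Set X)) S
  set T : Subgroup X := (S : Subgroup ↥(Subgroup.normalizer (P : Set X))).map (Subgroup.normalizer (P : Set X)).subtype with hTdef
  set K : Subgroup X := Subgroup.centralizer (P : Set X) with hKdef
  -- g is not in the normalizer
  have hgnot : g ∉ Subgroup.normalizer (P : Set X) :=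
    not_mem_of_normalizes _ T hT2 hTN hmax g hgN hgS hg2
  -- t is central in T
  have hTK : T ≤ Subgroup.normalizer (K : Set X) := hNN ▸ hTN
  have htc : ∀ s ∈ T, s * t * s⁻¹ = t := invol_central K T hr hT2 hTK t ht htS htP
  -- t'
  set t' : X := g * t * g⁻¹ with ht'def
  have ht'T : t' ∈ T := hgN t htS
  have ht' : orderOf t' = 2 := by
    have : t' = MulAut.conj g t := by simp [ht'def, MulAut.conj_apply]
    rw [this, MulEquiv.orderOf_eq]
    exact ht
  have hcomm : t * t' = t' * t := by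
    have := htc t' ht'T
    calc t * t' = (t' * t * t'⁻¹) * t' := by rw [this]
      _ = t' * t := by group
  have hback : g * t' * g⁻¹ = t := by
    have h := htc (g ^ 2) hg2
    rw [ht'def]
    calc g * (g * t * g⁻¹) * g⁻¹ = g ^ 2 * t * (g ^ 2)⁻¹ := by
          rw [pow_two]; group
      _ = t := h
  -- t' is not in K
  have ht'K : t' ∉ K := by
    intro h
    have := mem_normalizer_of_tight K htight g t ht htP h
    rw [← hNN] at this
    exact hgnot this
  obtain ⟨a, haP, ha, hta⟩ := decomp P hZ hr t t' ht ht' htP hcomm hgt ht'K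
  -- the odd core
  have hDn : (Cfsg.oddCore X).Normal := Cfsg.Agent.Lib.Helper1.pPrimeCore_normal 2
  have hDodd : Odd (Nat.card ↥(Cfsg.oddCore X)) := by
    have h := Cfsg.Agent.Lib.Helper1.pPrimeCore_coprime (G := X) 2
    exact Nat.Coprime.odd_of_right h
  -- C_D(t) ≤ C(P)
  have hCt : Cfsg.oddCore X ⊓ Subgroup.centralizer {t} ≤ K := by
    intro d hd
    have hdD : d ∈ Cfsg.oddCore X := hd.1
    have hdN : d ∈ Subgroup.normalizer (P : Set X) := by
      rw [hNN]
      exact centralizer_le_normalizer_of_tight K htight t ht htP hd.2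
    refine centralizes_of_comm_central P hq d hdN ?_
    intro y hy z hz
    have h1 : d * y * d⁻¹ * y⁻¹ ∈ P := by
      have := (Subgroup.mem_normalizer_iff.mp hdN y).mp hy
      exact P.mul_mem this (P.inv_mem hy)
    have h2 : d * y * d⁻¹ * y⁻¹ ∈ Cfsg.oddCore X := by
      have := hDn.conj_mem d⁻¹ ((Cfsg.oddCore X).inv_mem hdD) y
      have e : d * y * d⁻¹ * y⁻¹ = d * (y * d⁻¹ * y⁻¹) := by group
      rw [e]
      exact (Cfsg.oddCore X).mul_mem hdD this
    exact inf_odd_normal_central P hq a haP ha (Cfsg.oddCore X) hDodd _ ⟨h1, h2⟩ z hz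
  have hta' : a * t = t * a := by
    have := Subgroup.mem_centralizer_iff.mp htP a haP
    exact this
  -- C_D(t) ≤ C(t')
  have h1 : Cfsg.oddCore X ⊓ Subgroup.centralizer {t} ≤ Subgroup.centralizer {t'} := by
    intro d hd
    have hdK := hCt hd
    have hda : a * d = d * a := Subgroup.mem_centralizer_iff.mp hdK a haP
    have hdt : t * d = d * t := Subgroup.mem_centralizer_iff.mp hd.2 t (Set.mem_singleton t)
    rw [Subgroup.mem_centralizer_iff]
    intro x hx
    rw [Set.mem_singleton_iff] at hx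
    subst hx
    rcases hta with h | h
    · rw [h]; exact hda
    · rw [h, mul_assoc, hdt, ← mul_assoc, hda, mul_assoc]
  -- C_D(t') ≤ C(t)
  have h2 : Cfsg.oddCore X ⊓ Subgroup.centralizer {t'} ≤ Subgroup.centralizer {t} := by
    intro d hd
    have hdD : d ∈ Cfsg.oddCore X := hd.1
    have hdt' : t' * d = d * t' := Subgroup.mem_centralizer_iff.mp hd.2 t' (Set.mem_singleton t')
    have heD : g⁻¹ * d * g ∈ Cfsg.oddCore X := by
      have := hDn.conj_mem d hdD g⁻¹
      simpa using this
    have het : g⁻¹ * d * g ∈ Subgroup.centralizer {t} := by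
      rw [Subgroup.mem_centralizer_iff]
      intro x hx
      rw [Set.mem_singleton_iff] at hx
      subst hx
      have e1 : x * (g⁻¹ * d * g) = g⁻¹ * (t' * d) * g := by rw [ht'def]; group
      have e2 : g⁻¹ * d * g * x = g⁻¹ * (d * t') * g := by rw [ht'def]; group
      rw [e1, e2, hdt']
    have h3 := h1 ⟨heD, het⟩
    have h4 : t' * (g⁻¹ * d * g) = g⁻¹ * d * g * t' :=
      Subgroup.mem_centralizer_iff.mp h3 t' (Set.mem_singleton t')
    rw [Subgroup.mem_centralizer_iff]
    intro x hx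
    rw [Set.mem_singleton_iff] at hx
    subst hx
    have e1 : x * d = g * (t' * (g⁻¹ * d * g)) * g⁻¹ := by rw [← hback]; group
    have e2 : d * x = g * (g⁻¹ * d * g * t') * g⁻¹ := by rw [← hback]; group
    rw [e1, e2, h4]
  have h5 := prod_centralizes (Cfsg.oddCore X) hDodd t t' ht ht' hcomm h1 h2
  have hfirst : ⁅P, Cfsg.oddCore X⁆ = ⊥ := by
    rcases hta with h | h
    · -- t' = a, t * t' = a * t
      have e : t * t' = a * t := by rw [h, hta']
      rw [e] at h5
      exact comm_eq_bot P hq hZ (Cfsg.oddCore X) a t haP ha htP h5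
    · -- t' = a * t, t * t' = a
      have htt : t * t = 1 := by
        have := pow_orderOf_eq_one t
        rw [ht, pow_two] at this
        exact this
      have e : t * t' = a * 1 := by rw [h, ← mul_assoc, ← hta', mul_assoc, htt]
      rw [e] at h5
      exact comm_eq_bot P hq hZ (Cfsg.oddCore X) a 1 haP ha (Subgroup.one_mem _) h5
  exact ⟨hfirst, fun L hL hPL _ => pcomp_qs P hq a haP ha hfirst L hL hPL⟩

end Cfsg.Agent.Lib.Helper18.SS53
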